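import Cfsg.Agent.Lib.Chev.Aut.Diagram
import Cfsg.Agent.Lib.Chev.TorusCard
import Cfsg.Prelude.Def_KGroupFacts

/-!
The outer automorphism group of a Chevalley group: diagonal and field automorphisms, and the permutation of
the fundamental roots.
-/

set_option autoImplicit false

namespace Cfsg.Agent.Lib.ChevOut

open Cfsg.Lie Cfsg.Agent.Lib.Chev Cfsg.Agent.Lib.Chev.Aut
open scoped Matrix Pointwise

variable {D : ChevalleyDatum} {C : Cert} {F : Type*} [Field F]

/-- Coordinates on the nodes, extended by one. -/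
def extOne (D : ChevalleyDatum) (F : Type*) [Field F] : (Fin D.rank → Fˣ) →* (ℕ → Fˣ) where
  toFun c i := if hi : i < D.rank then c ⟨i, hi⟩ else 1
  map_one' := by funext i; split_ifs <;> simp
  map_mul' a b := by funext i; simp only [Pi.mul_apply]; split_ifs <;> simp

theorem extOne_apply (c : Fin D.rank → Fˣ) (i : Fin D.rank) : extOne D F c i.val = c i :=
  dif_pos i.2

variable (hh : Rooted D C)
include hh

theorem diagAut_sp (c : ℕ → Fˣ) (i : Fin D.rank) (t : F) :
    diagAut hh c (xg hh (sp D i) t) = xg hh (sp D i) ((c i.val : F) * t) := by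
  rw [diagAut_xg hh c (sp_lt hh i), chiOf_sp hh]

theorem diagAut_sm (c : ℕ → Fˣ) (i : Fin D.rank) (t : F) :
    diagAut hh c (xg hh (sm D i) t) = xg hh (sm D i) (((c i.val)⁻¹ : Fˣ) * t) := by
  rw [diagAut_xg hh c (sm_lt hh i), hh.toChecked.chiOf_ng c (sp_lt hh i)]
  exact congrArg (fun u : Fˣ => xg hh (sm D i) ((u⁻¹ : Fˣ) * t)) (chiOf_sp hh c i)

/-- The diagonal automorphisms as a homomorphism. -/
noncomputable def diagHom : (Fin D.rank → Fˣ) →* MulAut ↥(D.group F) where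
  toFun c := diagAut hh (extOne D F c)
  map_one' := eq_of_agree hh fun i t => by
    constructor <;>
      simp only [diagAut_sp, diagAut_sm, extOne_apply, Pi.one_apply, inv_one, Units.val_one, one_mul,
        MulAut.one_apply]
  map_mul' a b := eq_of_agree hh fun i t => by
    constructor <;>
      simp only [diagAut_sp, diagAut_sm, extOne_apply, Pi.mul_apply, mul_inv, Units.val_mul,
        MulAut.mul_apply, mul_assoc]

theorem diagHom_apply (c : Fin D.rank → Fˣ) : diagHom hh c = diagAut hh (extOne D F c) := rfl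

theorem diagHom_sp (c : Fin D.rank → Fˣ) (i : Fin D.rank) (t : F) :
    diagHom hh c (xg hh (sp D i) t) = xg hh (sp D i) ((c i : F) * t) := by
  rw [diagHom_apply, diagAut_sp, extOne_apply]

theorem diagHom_sm (c : Fin D.rank → Fˣ) (i : Fin D.rank) (t : F) :
    diagHom hh c (xg hh (sm D i) t) = xg hh (sm D i) (((c i)⁻¹ : Fˣ) * t) := by
  rw [diagHom_apply, diagAut_sm, extOne_apply]

theorem diagAut_eq_diagHom (c : ℕ → Fˣ) : diagAut hh c = diagHom hh fun i => c i.val :=
  eq_of_agree hh fun i t => ⟨by rw [diagAut_sp, diagHom_sp], by rw [diagAut_sm, diagHom_sm]⟩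

theorem diagHom_mem_nrm (c : Fin D.rank → Fˣ) : diagHom hh c ∈ Nrm D F := diagAut_mem_nrm hh _

/-- The field automorphisms as a homomorphism. -/
noncomputable def fieldHom : (F ≃+* F) →* MulAut ↥(D.group F) where
  toFun σ := Twisted.fieldAut D σ
  map_one' := eq_of_agree hh fun i t => ⟨fieldAut_xg hh 1 _ t, fieldAut_xg hh 1 _ t⟩
  map_mul' σ τ := eq_of_agree hh fun i t => by
    constructor <;> simp only [MulAut.mul_apply, fieldAut_xg] <;> rfl

theorem fieldHom_xg (σ : F ≃+* F) (r : ℕ) (t : F) : fieldHom hh σ (xg hh r t) = xg hh r (σ t) :=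
  fieldAut_xg hh σ r t

theorem fieldHom_mem_nrm (σ : F ≃+* F) : fieldHom hh σ ∈ Nrm D F := fieldAut_mem_nrm hh σ

/-- `θ` sends the root group of the fundamental root `i` into the one of `π i`. -/
def Moves (θ : MulAut ↥(D.group F)) (π : Equiv.Perm (Fin D.rank)) : Prop :=
  ∀ i t, ∃ u, θ (xg hh (sp D i) t) = xg hh (sp D (π i)) u

theorem moves_unique {θ : MulAut ↥(D.group F)} {π π' : Equiv.Perm (Fin D.rank)} (h1 : Moves hh θ π)
    (h2 : Moves hh θ π') : π = π' := by
  refine Equiv.ext fun i => ?_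
  obtain ⟨u, hu⟩ := h1 i 1
  obtain ⟨u', hu'⟩ := h2 i 1
  have hne : u ≠ 0 := fun e => by
    rw [e, xg_zero, EmbeddingLike.map_eq_one_iff, xg_eq_one_iff hh (sp_lt hh i)] at hu
    exact one_ne_zero hu
  have e := pos_root_inj hh (r := sp D (π i)) (s := sp D (π' i)) ⟨sp_pos hh _, sp_lt hh _⟩
    ⟨sp_pos hh _, sp_lt hh _⟩ hne (hu.symm.trans hu')
  exact Fin.ext (hh.toChecked.simple_inj (π i).2 (π' i).2 e)

theorem moves_mul {θ θ' : MulAut ↥(D.group F)} {π π' : Equiv.Perm (Fin D.rank)} (h1 : Moves hh θ π)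
    (h2 : Moves hh θ' π') : Moves hh (θ * θ') (π * π') := by
  intro i t
  obtain ⟨u, hu⟩ := h2 i t
  obtain ⟨v, hv⟩ := h1 (π' i) u
  exact ⟨v, by rw [MulAut.mul_apply, hu, hv]; rfl⟩

theorem moves_diagHom (c : Fin D.rank → Fˣ) : Moves hh (diagHom hh c) 1 :=
  fun i t => ⟨_, diagHom_sp hh c i t⟩

theorem moves_fieldHom (σ : F ≃+* F) : Moves hh (fieldHom hh σ) 1 :=
  fun i t => ⟨_, fieldHom_xg hh σ _ t⟩

theorem moves_of_acts {η : MulAut ↥(D.group F)} {π : Equiv.Perm (Fin D.rank)}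
    {σ : Fin D.rank → F ≃+* F} (ha : Acts hh η π σ) : Moves hh η π :=
  fun i t => ⟨_, (ha i t).1⟩

theorem exists_moves [Finite F] (θ : ↥(Nrm D F)) : ∃ π, Moves hh (θ : MulAut ↥(D.group F)) π := by
  obtain ⟨π, hπ⟩ := exists_images hh θ.2
  exact ⟨π, fun i t => (hπ i).1 t⟩

/-- The permutation of the nodes of an automorphism fixing `U` and `V`. -/
noncomputable def nodePerm [Finite F] : ↥(Nrm D F) →* Equiv.Perm (Fin D.rank) :=
  MonoidHom.mk' (fun θ => (exists_moves hh θ).choose) fun a b =>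
    moves_unique hh (exists_moves hh (a * b)).choose_spec
      (moves_mul hh (exists_moves hh a).choose_spec (exists_moves hh b).choose_spec)

theorem nodePerm_eq [Finite F] {θ : ↥(Nrm D F)} {π : Equiv.Perm (Fin D.rank)}
    (h : Moves hh (θ : MulAut ↥(D.group F)) π) : nodePerm hh θ = π :=
  moves_unique hh (exists_moves hh θ).choose_spec h

theorem nodePerm_moves [Finite F] (θ : ↥(Nrm D F)) : Moves hh (θ : MulAut ↥(D.group F)) (nodePerm hh θ) :=
  (exists_moves hh θ).choose_spec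

theorem conj_tg_moves (c : ℕ → Fˣ) : Moves hh (MulAut.conj (tg hh c)) 1 :=
  fun i t => ⟨_, (MulAut.conj_apply _ _).trans (tg_conj hh c (sp_lt hh i) t)⟩

omit hh in
/-- From the automorphisms fixing `U` and `V` to the outer automorphism group. -/
noncomputable def nrmOut (D : ChevalleyDatum) (F : Type*) [Field F] :
    ↥(Nrm D F) →* Cfsg.Out ↥(D.group F) :=
  (QuotientGroup.mk' (Cfsg.Inn ↥(D.group F))).comp (Nrm D F).subtype

theorem nrmOut_surjective [Finite F] : Function.Surjective (nrmOut D F) := by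
  intro o
  obtain ⟨θ, rfl⟩ := QuotientGroup.mk'_surjective _ o
  obtain ⟨x, hx⟩ := exists_conj_mul_mem hh θ
  refine ⟨⟨_, hx⟩, ?_⟩
  change QuotientGroup.mk' (Cfsg.Inn ↥(D.group F)) (MulAut.conj x * θ) = _
  rw [map_mul, show QuotientGroup.mk' (Cfsg.Inn ↥(D.group F)) (MulAut.conj x) = 1 from
    (QuotientGroup.eq_one_iff _).2 ⟨x, rfl⟩, one_mul]

theorem nrmOut_ker_le [Finite F] : (nrmOut D F).ker ≤ (nodePerm (F := F) hh).ker := by
  intro θ hθ
  obtain ⟨x, hx⟩ : ∃ x, MulAut.conj x = (θ : MulAut ↥(D.group F)) :=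
    (QuotientGroup.eq_one_iff _).1 (MonoidHom.mem_ker.1 hθ)
  obtain ⟨c, rfl⟩ := exists_tg hh ((conj_mem_nrm_iff hh x).1 (hx ▸ θ.2))
  exact MonoidHom.mem_ker.2 (nodePerm_eq hh (hx ▸ conj_tg_moves hh c))

/-- The permutation of the nodes of an outer automorphism. -/
noncomputable def outPerm [Finite F] : Cfsg.Out ↥(D.group F) →* Equiv.Perm (Fin D.rank) :=
  MonoidHom.liftOfSurjective (nrmOut D F) (nrmOut_surjective hh) ⟨nodePerm hh, nrmOut_ker_le hh⟩

theorem outPerm_nrmOut [Finite F] (θ : ↥(Nrm D F)) : outPerm hh (nrmOut D F θ) = nodePerm hh θ :=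
  MonoidHom.liftOfRightInverse_comp_apply _ _ _ _ θ

theorem outPerm_mk [Finite F] {θ : MulAut ↥(D.group F)} {π : Equiv.Perm (Fin D.rank)}
    (hθ : θ ∈ Nrm D F) (h : Moves hh θ π) :
    outPerm hh (QuotientGroup.mk' (Cfsg.Inn ↥(D.group F)) θ) = π :=
  (outPerm_nrmOut hh ⟨θ, hθ⟩).trans (nodePerm_eq hh h)

/-- The outer automorphisms given by diagonal automorphisms. -/
noncomputable def diagOut : (Fin D.rank → Fˣ) →* Cfsg.Out ↥(D.group F) :=
  (QuotientGroup.mk' (Cfsg.Inn ↥(D.group F))).comp (diagHom hh)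

/-- The outer automorphisms given by field automorphisms. -/
noncomputable def fieldOut : (F ≃+* F) →* Cfsg.Out ↥(D.group F) :=
  (QuotientGroup.mk' (Cfsg.Inn ↥(D.group F))).comp (fieldHom hh)

theorem conj_tg_eq_diagHom (c : ℕ → Fˣ) :
    MulAut.conj (tg hh c) = diagHom hh fun i : Fin D.rank => torusFun D c (D.simple i.val) := by
  refine eq_of_agree hh fun i t => ⟨?_, ?_⟩
  · rw [MulAut.conj_apply, tg_conj hh c (sp_lt hh i), diagHom_sp]
  · rw [MulAut.conj_apply, tg_conj hh c (sm_lt hh i), diagHom_sm]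
    have h := hh.toChecked
    rw [← h.chiOf_torus c (sm_lt hh i), h.chiOf_ng _ (sp_lt hh i), h.chiOf_torus c (sp_lt hh i)]

theorem zpowMap_eq_torusFun (c : ℕ → Fˣ) :
    zpowMap Fˣ (cmMat D C) (fun i : Fin D.rank => c i.val) =
      fun j : Fin D.rank => torusFun D c (D.simple j.val) := by
  funext j
  simp only [zpowMap, MonoidHom.coe_mk, OneHom.coe_mk, cmMat, Matrix.of_apply, torusFun, Finset.prod_range]
  exact Finset.prod_congr rfl fun i _ => by rw [hh.toChecked.cartan_simple i.2 j.2]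

/-- A product of a diagonal and a field automorphism which is inner. -/
theorem diag_field_inn {a : Fin D.rank → Fˣ} {σ : F ≃+* F} (hr : 0 < D.rank)
    (h : diagOut hh a * fieldOut hh σ = 1) : a ∈ (zpowMap Fˣ (cmMat D C)).range ∧ σ = 1 := by
  obtain ⟨x, hx⟩ : ∃ x, MulAut.conj x = diagHom hh a * fieldHom hh σ :=
    (QuotientGroup.eq_one_iff _).1 h
  obtain ⟨c, rfl⟩ := exists_tg hh ((conj_mem_nrm_iff hh x).1
    (hx ▸ mul_mem (diagHom_mem_nrm hh a) (fieldHom_mem_nrm hh σ)))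
  have e : ∀ i t, (a i : F) * σ t = (torusFun D c (D.simple i.val) : F) * t := fun i t => by
    refine xg_inj hh (sp_lt hh i) ?_
    rw [← diagHom_sp hh (fun i : Fin D.rank => torusFun D c (D.simple i.val)) i t,
      ← conj_tg_eq_diagHom hh c, hx, MulAut.mul_apply, fieldHom_xg, diagHom_sp]
  have ea : ∀ i, a i = torusFun D c (D.simple i.val) := fun i => Units.ext (by simpa using e i 1)
  refine ⟨⟨fun i => c i.val, (zpowMap_eq_torusFun hh c).trans (funext fun i => (ea i).symm)⟩,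
    RingEquiv.ext fun t => ?_⟩
  have := e ⟨0, hr⟩ t
  rw [ea] at this
  exact mul_left_cancel₀ (Units.ne_zero _) this

theorem zpowMap_range_le : (zpowMap Fˣ (cmMat D C)).range ≤ (diagOut (F := F) hh).ker := by
  rintro _ ⟨b, rfl⟩
  refine MonoidHom.mem_ker.2 ((QuotientGroup.eq_one_iff _).2 ⟨tg hh (extOne D F b), ?_⟩)
  rw [conj_tg_eq_diagHom, ← zpowMap_eq_torusFun hh (extOne D F b)]
  congr 2
  exact funext (extOne_apply b)

theorem diagOut_ker (hr : 0 < D.rank) : (diagOut (F := F) hh).ker = (zpowMap Fˣ (cmMat D C)).range := by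
  refine le_antisymm (fun a ha => (diag_field_inn hh (σ := 1) hr ?_).1) (zpowMap_range_le hh)
  rw [map_one, mul_one]; exact MonoidHom.mem_ker.1 ha

theorem card_diagOut [Finite F] (hr : 0 < D.rank) :
    Nat.card ↥(diagOut (F := F) hh).range = Nat.card ↥(zpowMap Fˣ (cmMat D C)).ker := by
  set φ := zpowMap Fˣ (cmMat D C)
  have h1 : Nat.card ↥(diagOut (F := F) hh).range * Nat.card ↥φ.range = Nat.card (Fin D.rank → Fˣ) := by
    rw [← diagOut_ker hh hr, ← Nat.card_congr (QuotientGroup.quotientKerEquivRange _).toEquiv,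
      ← Subgroup.card_eq_card_quotient_mul_card_subgroup]
  have h2 : Nat.card ↥φ.ker * Nat.card ↥φ.range = Nat.card (Fin D.rank → Fˣ) := by
    rw [← Nat.card_congr (QuotientGroup.quotientKerEquivRange φ).toEquiv, mul_comm,
      ← Subgroup.card_eq_card_quotient_mul_card_subgroup]
  exact Nat.eq_of_mul_eq_mul_right Nat.card_pos (h1.trans h2.symm)

theorem fieldOut_injective (hr : 0 < D.rank) : Function.Injective (fieldOut (F := F) hh) :=
  (injective_iff_map_eq_one _).2 fun σ hσ => (diag_field_inn hh (a := 1) hr (by rw [map_one, one_mul, hσ])).2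

theorem diag_inf_field (hr : 0 < D.rank) :
    Disjoint (diagOut (F := F) hh).range (fieldOut (F := F) hh).range := by
  rw [Subgroup.disjoint_def]
  rintro _ ⟨a, rfl⟩ ⟨σ, hσ⟩
  have := (diag_field_inn hh (a := a⁻¹) (σ := σ) hr (by rw [map_inv, hσ, inv_mul_cancel])).2
  rw [← hσ, this, map_one]

theorem diagOut_normal [Finite F] : (diagOut (F := F) hh).range.Normal := by
  refine ⟨?_⟩
  rintro _ ⟨a, rfl⟩ o
  obtain ⟨θ, rfl⟩ := nrmOut_surjective hh o
  obtain ⟨c, η, π, σ, e, ha⟩ := exists_diag_mul_acts hh θ.2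
  have hconj : η * diagHom hh a * η⁻¹ =
      diagHom hh fun j => Units.map (σ (π.symm j)).toRingHom.toMonoidHom (a (π.symm j)) := by
    refine eq_of_agree hh fun j t => ⟨?_, ?_⟩
    · rw [MulAut.mul_apply, MulAut.mul_apply, ((ha.inv hh) j t).1, diagHom_sp, (ha _ _).1,
        Equiv.apply_symm_apply, map_mul, RingEquiv.apply_symm_apply, diagHom_sp]
      rfl
    · rw [MulAut.mul_apply, MulAut.mul_apply, ((ha.inv hh) j t).2, diagHom_sm, (ha _ _).2,
        Equiv.apply_symm_apply, map_mul, RingEquiv.apply_symm_apply, diagHom_sm, ← map_inv]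
      rfl
  let d : Fin D.rank → Fˣ := fun i => c i.val
  refine ⟨fun j => d j * Units.map (σ (π.symm j)).toRingHom.toMonoidHom (a (π.symm j)) * (d j)⁻¹, ?_⟩
  change QuotientGroup.mk' (Cfsg.Inn ↥(D.group F)) _ =
    QuotientGroup.mk' (Cfsg.Inn ↥(D.group F)) (θ : MulAut ↥(D.group F)) *
      QuotientGroup.mk' (Cfsg.Inn ↥(D.group F)) (diagHom hh a) *
      (QuotientGroup.mk' (Cfsg.Inn ↥(D.group F)) (θ : MulAut ↥(D.group F)))⁻¹
  rw [← map_inv, ← map_mul, ← map_mul, e, diagAut_eq_diagHom]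
  refine congrArg _ ?_
  change diagHom hh (d * (fun j => Units.map (σ (π.symm j)).toRingHom.toMonoidHom (a (π.symm j))) * d⁻¹) = _
  rw [map_mul, map_mul, ← hconj, map_inv]
  group
  rfl

/-- For a permutation fixing every node the normal form is a diagonal and a field automorphism. -/
theorem outPerm_ker [Finite F]
    (hcl : ∀ {η : MulAut ↥(D.group F)} {π : Equiv.Perm (Fin D.rank)} {σ : Fin D.rank → F ≃+* F},
      Acts hh η π σ → D.IsDiagramSymmetry π ∧
        ∃ σ₀ : F ≃+* F, ∀ i t, σ i t = σ₀ t ^ D.graphExp (ringChar F) i.val (π i).val) :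
    (outPerm hh).ker = (diagOut (F := F) hh).range ⊔ (fieldOut (F := F) hh).range := by
  refine le_antisymm (fun o ho => ?_) (sup_le ?_ ?_)
  · obtain ⟨θ, rfl⟩ := nrmOut_surjective hh o
    rw [MonoidHom.mem_ker, outPerm_nrmOut] at ho
    have hθ := nodePerm_moves hh θ
    rw [ho] at hθ
    obtain ⟨c, η, π, σ, e, ha⟩ := exists_diag_mul_acts hh θ.2
    have hπ : π = 1 := by
      refine moves_unique hh (θ := (θ : MulAut ↥(D.group F))) ?_ hθ
      have := moves_mul hh (moves_diagHom hh fun i : Fin D.rank => c i.val) (moves_of_acts hh ha)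
      rwa [one_mul, ← diagAut_eq_diagHom, ← e] at this
    subst hπ
    obtain ⟨-, σ₀, hσ₀⟩ := hcl ha
    have hexp : ∀ i : Fin D.rank, D.graphExp (ringChar F) i.val ((1 : Equiv.Perm (Fin D.rank)) i).val = 1 := by
      intro i
      rw [ChevalleyDatum.graphExp, if_neg]
      simp
    have hη : η = fieldHom hh σ₀ := eq_of_agree hh fun i t => by
      rw [(ha i t).1, (ha i t).2, fieldHom_xg, fieldHom_xg, hσ₀, hexp, pow_one]
      exact ⟨rfl, rfl⟩
    change QuotientGroup.mk' (Cfsg.Inn ↥(D.group F)) (θ : MulAut ↥(D.group F)) ∈ _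
    rw [e, map_mul, diagAut_eq_diagHom, hη]
    exact Subgroup.mul_mem_sup ⟨_, rfl⟩ ⟨_, rfl⟩
  · rintro _ ⟨a, rfl⟩
    exact MonoidHom.mem_ker.2 (outPerm_mk hh (diagHom_mem_nrm hh a) (moves_diagHom hh a))
  · rintro _ ⟨σ, rfl⟩
    exact MonoidHom.mem_ker.2 (outPerm_mk hh (fieldHom_mem_nrm hh σ) (moves_fieldHom hh σ))

theorem card_out [Finite F] (hr : 0 < D.rank)
    (hcl : ∀ {η : MulAut ↥(D.group F)} {π : Equiv.Perm (Fin D.rank)} {σ : Fin D.rank → F ≃+* F},
      Acts hh η π σ → D.IsDiagramSymmetry π ∧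
        ∃ σ₀ : F ≃+* F, ∀ i t, σ i t = σ₀ t ^ D.graphExp (ringChar F) i.val (π i).val) :
    Nat.card (Cfsg.Out ↥(D.group F)) = Nat.card ↥(outPerm (F := F) hh).range *
      (Nat.card ↥(zpowMap Fˣ (cmMat D C)).ker * Nat.card (F ≃+* F)) := by
  rw [Subgroup.card_eq_card_quotient_mul_card_subgroup (outPerm (F := F) hh).ker,
    Nat.card_congr (QuotientGroup.quotientKerEquivRange _).toEquiv, ← card_diagOut hh hr,
    Nat.card_congr (MonoidHom.ofInjective (fieldOut_injective (F := F) hh hr)).toEquiv, outPerm_ker hh hcl]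
  congr 1
  rw [← Nat.card_prod]
  haveI := diagOut_normal (F := F) hh
  set A := (diagOut (F := F) hh).range
  set B := (fieldOut (F := F) hh).range
  refine (Nat.card_congr (Equiv.ofBijective (fun x : ↥A × ↥B =>
    (⟨(x.1 : Cfsg.Out ↥(D.group F)) * x.2, Subgroup.mul_mem_sup x.1.2 x.2.2⟩ : ↥(A ⊔ B))) ⟨?_, ?_⟩)).symm
  · intro x y e
    exact Subgroup.mul_injective_of_disjoint (diag_inf_field hh hr) (congrArg Subtype.val e)
  · rintro ⟨g, hg⟩
    have : g ∈ ((A : Set (Cfsg.Out ↥(D.group F))) * (B : Set (Cfsg.Out ↥(D.group F)))) := by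
      rw [← Subgroup.normal_mul]; exact hg
    obtain ⟨a, ha, b, hb, rfl⟩ := this
    exact ⟨(⟨a, ha⟩, ⟨b, hb⟩), rfl⟩

end Cfsg.Agent.Lib.ChevOut
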