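import Cfsg.Agent.Lib.ChevOut.Graph
import Cfsg.Agent.Lib.Chev.Orders

/-!
The order of the outer automorphism group in terms of the diagram permutations and the Smith form.
-/

set_option autoImplicit false

namespace Cfsg.Agent.Lib.ChevOut

open Cfsg.Lie Cfsg.Agent.Lib.Chev Cfsg.Agent.Lib.Chev.Aut

theorem exists_count {F : Type*} [Field F] [Fintype F] (p f : ℕ) [Fact p.Prime] [CharP F p]
    (hF : Fintype.card F = p ^ f) {D : ChevalleyDatum}
    (hD : D ∈ [chevG2, chevB2, chevD4, chevF4, chevE6, chevE7, chevE8]) (hr : 0 < D.rank)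
    {C' : Cert} (hh' : Rooted D C') {d : List ℕ} (hs : SmithOK D C' d) :
    ∃ C, ∃ hh : Rooted D C, Nat.card (Cfsg.Out ↥(D.group F)) =
      Nat.card ↥(outPerm (F := F) hh).range * ((∏ i : Fin D.rank, (p ^ f - 1).gcd (d.getD i.val 0)) * f) := by
  obtain ⟨C, hh, hcl⟩ := classify (F := F) hD
  refine ⟨C, hh, ?_⟩
  rw [card_out hh hr hcl, card_ringAut p f hF, cmMat_eq hh.toChecked hh'.toChecked,
    card_ker_of_smith hs, hF]

end Cfsg.Agent.Lib.ChevOut
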