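import Cfsg.Agent.Lib.Twisted.GraphData

/-! The transposition of two outer nodes of the diagram of D₄ as a signed permutation of the basis. -/

set_option autoImplicit false

namespace Cfsg.Agent.Lib.ChevOut

open Cfsg.Agent.Lib.Twisted

def d4Swap : GraphData where
  nodes := [0, 1, 3, 2]
  rho := [0, 1, 3, 2, 4, 5, 6, 8, 7, 9, 11, 10, 13, 12, 14, 16, 15, 17, 18, 19, 21, 20, 22, 23]
  eta := [1, 1, 1, 1, 1, 1, 1, 1, 1, 1, 1, 1, 1, 1, 1, 1, 1, 1, 1, 1, 1, 1, 1, 1]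

theorem d4Swap_ok : GraphData.ok Cfsg.Lie.chevD4 d4Swap = true := by decide +kernel

theorem d4Swap_facts : GraphData.Facts Cfsg.Lie.chevD4 d4Swap := GraphData.facts_of_ok d4Swap_ok

end Cfsg.Agent.Lib.ChevOut
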