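import Cfsg.Agent.Lib.ChevOut.Basic
import Cfsg.Agent.Lib.Twisted.GraphAut
import Cfsg.Agent.Lib.Twisted.ExcIso
import Cfsg.Agent.Lib.FieldAut.Span

/-!
The permutations of the nodes which occur: graph automorphisms, and bounds from the diagram.
-/

set_option autoImplicit false

namespace Cfsg.Agent.Lib.ChevOut

open Cfsg.Lie Cfsg.Agent.Lib.Chev Cfsg.Agent.Lib.Chev.Aut
open scoped Matrix

/-- `ρ` permutes the roots keeping the positive ones, and the fundamental ones as `π` does. -/
def posPerm (D : ChevalleyDatum) (ρ : ℕ → ℕ) (π : Equiv.Perm (Fin D.rank)) : Bool :=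
  ((List.range D.nroots).all fun r => decide (ρ r < D.nroots) &&
    (decide (D.nroots / 2 ≤ r) == decide (D.nroots / 2 ≤ ρ r)) &&
    (List.range D.nroots).any fun s => ρ s == r) &&
  (List.finRange D.rank).all fun i => ρ (D.simple i.val) == D.simple (π i).val

variable {D : ChevalleyDatum} {C : Cert} {F : Type*} [Field F]

/-- The Cartan matrix does not depend on the certificate. -/
theorem cmMat_eq {C' : Cert} (h : Checked D C) (h' : Checked D C') : cmMat D C = cmMat D C' := by
  ext i j
  change cm C i.val j.val = cm C' i.val j.val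
  rw [← h.cartan_simple i.2 j.2, ← h'.cartan_simple i.2 j.2]

theorem card_ringAut [Fintype F] (p f : ℕ) [hp : Fact p.Prime] [CharP F p] (hF : Fintype.card F = p ^ f) :
    Nat.card (F ≃+* F) = f := by
  letI : Algebra (ZMod p) F := ZMod.algebra F p
  rw [Lib.FieldAut.card_aut p]
  have e := Module.natCard_eq_pow_finrank (K := ZMod p) (V := F)
  rw [Nat.card_eq_fintype_card, hF, Nat.card_zmod] at e
  exact (Nat.pow_right_injective hp.out.two_le e).symm

variable (hh : Rooted D C)
include hh

theorem maps_UV {η : MulAut ↥(D.group F)}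
    (hη : ∀ r < D.nroots, ∀ t, ∃ r', r' < D.nroots ∧ (D.nroots / 2 ≤ r ↔ D.nroots / 2 ≤ r') ∧
      ∃ t', η (xg hh r t) = xg hh r' t') (g : ↥(D.group F)) :
    (g ∈ Ug D F → η g ∈ Ug D F) ∧ (g ∈ Vg D F → η g ∈ Vg D F) := by
  have h := hh.toChecked
  refine ⟨fun hg => ?_, fun hg => ?_⟩
  · have hle : D.posUnipotent F ≤ ((Ug D F).comap η.toMonoidHom).map (D.group F).subtype := by
      rw [h.posUnipotent_eq, rootGen, Subgroup.closure_le]
      rintro x ⟨r, t, hr, ex⟩
      obtain rfl : x = (xg hh r t : GL D.Idx F) := Units.ext (by rw [ex, xg_val])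
      obtain ⟨r', hr', hp, t', ht'⟩ := hη r hr.2 t
      refine ⟨_, ?_, rfl⟩
      rw [SetLike.mem_coe, Subgroup.mem_comap, MulEquiv.coe_toMonoidHom, ht']
      exact xg_mem_U hh hr' (hp.1 hr.1) t'
    obtain ⟨g', hg', eg⟩ := hle hg
    obtain rfl := Subtype.ext eg
    exact hg'
  · have hle : D.negUnipotent F ≤ ((Vg D F).comap η.toMonoidHom).map (D.group F).subtype := by
      rw [h.negUnipotent_eq, rootGen, Subgroup.closure_le]
      rintro x ⟨r, t, hr, ex⟩
      obtain rfl : x = (xg hh r t : GL D.Idx F) := Units.ext (by rw [ex, xg_val])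
      have hn : r < D.nroots / 2 := hr
      obtain ⟨r', hr', hp, t', ht'⟩ := hη r (by omega) t
      refine ⟨_, ?_, rfl⟩
      rw [SetLike.mem_coe, Subgroup.mem_comap, MulEquiv.coe_toMonoidHom, ht']
      exact xg_mem_V hh (lt_of_not_ge fun hge => by have := hp.2 hge; omega) t'
    obtain ⟨g', hg', eg⟩ := hle hg
    obtain rfl := Subtype.ext eg
    exact hg'

/-- An automorphism permuting all root groups along `ρ` gives its permutation of the nodes. -/
theorem mem_range_of_posPerm [Finite F] {θ : MulAut ↥(D.group F)} {ρ : ℕ → ℕ}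
    {π : Equiv.Perm (Fin D.rank)} (hc : posPerm D ρ π = true) (μ : ℕ → F → F)
    (hμ : ∀ r < D.nroots, Function.Surjective (μ r))
    (hx : ∀ r < D.nroots, ∀ t, θ (xg hh r t) = xg hh (ρ r) (μ r t)) :
    π ∈ (outPerm (F := F) hh).range := by
  simp only [posPerm, Bool.and_eq_true, List.all_eq_true, List.mem_range, decide_eq_true_eq,
    beq_iff_eq, decide_eq_decide, List.any_eq_true, List.mem_finRange, true_implies] at hc
  obtain ⟨hρ, hπ⟩ := hc
  have hθ : θ ∈ Nrm D F := by
    have h1 := maps_UV hh (η := θ) fun r hr t => ⟨ρ r, (hρ r hr).1.1, (hρ r hr).1.2, _, hx r hr t⟩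
    have h2 := maps_UV hh (η := θ⁻¹) fun r' hr' t' => by
      obtain ⟨r, hr, e⟩ := (hρ r' hr').2
      obtain ⟨t, ht⟩ := hμ r hr t'
      refine ⟨r, hr, e ▸ (hρ r hr).1.2.symm, t, θ.injective ?_⟩
      rw [MulAut.inv_def, MulEquiv.apply_symm_apply, hx r hr, e, ht]
    intro g
    refine ⟨⟨fun hg => ?_, (h1 g).1⟩, ⟨fun hg => ?_, (h1 g).2⟩⟩
    · simpa using (h2 _).1 hg
    · simpa using (h2 _).2 hg
  refine ⟨QuotientGroup.mk' (Cfsg.Inn ↥(D.group F)) θ, outPerm_mk hh hθ fun i t => ⟨μ (sp D i) t, ?_⟩⟩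
  rw [hx _ (sp_lt hh i), hπ i]

theorem mem_range_of_graphData [Finite F] {P : Twisted.GraphData} (hP : Twisted.GraphData.Facts D P)
    {π : Equiv.Perm (Fin D.rank)} (hc : posPerm D P.root π = true) :
    π ∈ (outPerm (F := F) hh).range := by
  refine mem_range_of_posPerm hh (θ := Twisted.GraphData.graphAut hP F) hc (fun r t => (P.sign r : F) * t)
    (fun r hr y => ⟨(P.sign r : F) * y, ?_⟩)
    fun r hr t => eq_xg hh (Twisted.GraphData.graphAut_x hP F _ hr t (xg_val hh r t))
  have := Twisted.GraphData.sign_cast_pow_two F hP ⟨r, hr⟩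
  simp only [← mul_assoc, this, one_mul]

theorem mem_range_of_excAut [Fintype F] (p : ℕ) [Fact p.Prime] [CharP F p] (α : MulAut ↥(D.group F))
    {ρ e : ℕ → ℕ} {π : Equiv.Perm (Fin D.rank)} (hc : posPerm D ρ π = true)
    (he : ((List.range D.nroots).all fun r => (e r == 1) || (e r == p)) = true)
    (hα : ∀ (g : ↥(D.group F)) (r : ℕ) (t : F), r < D.nroots →
      ((g : GL D.Idx F) : Matrix D.Idx D.Idx F) = D.x F r t →
      ((α g : GL D.Idx F) : Matrix D.Idx D.Idx F) = D.x F (ρ r) (t ^ e r)) :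
    π ∈ (outPerm (F := F) hh).range := by
  simp only [List.all_eq_true, List.mem_range, Bool.or_eq_true, beq_iff_eq] at he
  refine mem_range_of_posPerm hh (θ := α) hc (fun r t => t ^ e r) (fun r hr y => ?_)
    fun r hr t => eq_xg hh (hα _ r t hr (xg_val hh r t))
  rcases he r hr with h1 | h1
  · exact ⟨y, by simp [h1]⟩
  · obtain ⟨x, hx⟩ := surjective_frobenius F p y
    exact ⟨x, by simpa [h1, frobenius_def] using hx⟩

theorem exists_acts [Finite F] {π : Equiv.Perm (Fin D.rank)} (h : π ∈ (outPerm (F := F) hh).range) :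
    ∃ η σ, Acts hh (F := F) η π σ := by
  obtain ⟨o, rfl⟩ := h
  obtain ⟨θ, rfl⟩ := nrmOut_surjective hh o
  obtain ⟨c, η, π, σ, e, ha⟩ := exists_diag_mul_acts hh θ.2
  rw [outPerm_nrmOut]
  have hπ : nodePerm hh θ = π := nodePerm_eq hh (by
    have := moves_mul hh (moves_diagHom hh fun i : Fin D.rank => c i.val) (moves_of_acts hh ha)
    rwa [one_mul, ← diagAut_eq_diagHom, ← e] at this)
  exact ⟨η, σ, hπ ▸ ha⟩

theorem range_permList [Finite F] {π : Equiv.Perm (Fin D.rank)} (h : π ∈ (outPerm (F := F) hh).range) :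
    permList π ∈ syms D D.rank := by
  obtain ⟨η, σ, ha⟩ := exists_acts hh h
  exact permList_mem_syms hh ha

theorem card_range_le [Finite F] :
    Nat.card ↥(outPerm (F := F) hh).range ≤ (syms D D.rank).length := by
  let g : ↥(outPerm (F := F) hh).range → ↥(syms D D.rank).toFinset := fun π =>
    ⟨permList π.1, List.mem_toFinset.2 (range_permList hh π.2)⟩
  have hg : Function.Injective g := by
    intro a b e
    refine Subtype.ext (Equiv.ext fun i => Fin.ext ?_)
    have e' : permList a.1 = permList b.1 := congrArg Subtype.val e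
    rw [← permList_getD a.1 i, e', permList_getD]
  refine (Nat.card_le_card_of_injective g hg).trans ?_
  rw [Nat.card_eq_fintype_card, Fintype.card_coe]
  exact List.toFinset_card_le _

theorem card_range_eq_one [Finite F] (hlen : (syms D D.rank).length = 1) :
    Nat.card ↥(outPerm (F := F) hh).range = 1 :=
  le_antisymm ((card_range_le hh).trans hlen.le) Nat.card_pos

theorem card_range_eq_two [Finite F] (hlen : (syms D D.rank).length = 2) {π : Equiv.Perm (Fin D.rank)}
    (h : π ∈ (outPerm (F := F) hh).range) (hne : π ≠ 1) :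
    Nat.card ↥(outPerm (F := F) hh).range = 2 := by
  refine le_antisymm ((card_range_le hh).trans hlen.le) ?_
  exact (Subgroup.one_lt_card_iff_ne_bot _).2 fun e => hne (by simpa [e] using h)

theorem card_range_eq_one_of [Finite F] (hid : ∀ π ∈ (outPerm (F := F) hh).range, π = 1) :
    Nat.card ↥(outPerm (F := F) hh).range = 1 :=
  Subgroup.card_eq_one.2 ((Subgroup.eq_bot_iff_forall _).2 hid)

end Cfsg.Agent.Lib.ChevOut
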