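import Cfsg.Agent.Lib.ChevOut.Graph
import Cfsg.Agent.Lib.ChevOut.DataD4
import Cfsg.Agent.S2157

/-!
The subgroups generated by the diagonal and by the field automorphisms, and the index of their product.
-/

set_option autoImplicit false

namespace Cfsg.Agent.Lib.ChevOut

open Cfsg.Lie Cfsg.Agent.Lib.Chev Cfsg.Agent.Lib.Chev.Aut
open scoped Matrix

theorem ringAut_isCyclic {F : Type*} [Field F] [Finite F] : IsCyclic (F ≃+* F) := by
  obtain ⟨p, hp⟩ := CharP.exists F
  haveI := hp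
  haveI : Fact p.Prime := ⟨CharP.char_is_prime F p⟩
  letI : Algebra (ZMod p) F := ZMod.algebra F p
  let f : (F ≃ₐ[ZMod p] F) →* (F ≃+* F) :=
    { toFun := fun g => g.toRingEquiv, map_one' := rfl, map_mul' := fun _ _ => rfl }
  exact isCyclic_of_surjective f fun ρ =>
    ⟨AlgEquiv.ofRingEquiv (f := ρ) fun y => congrFun (congrArg DFunLike.coe
      (RingHom.ext_zmod (ρ.toRingHom.comp (algebraMap (ZMod p) F)) (algebraMap (ZMod p) F))) y,
      RingEquiv.ext fun _ => rfl⟩

variable {D : ChevalleyDatum} {C : Cert} {F : Type*} [Field F] (hh : Rooted D C)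
include hh

theorem closure_diag [Finite F] (hD : D ∈ [chevG2, chevB2, chevD4, chevF4, chevE6, chevE7, chevE8]) :
    Subgroup.closure {φ : MulAut ↥(D.group F) | D.IsDiagonalAut φ} = (diagHom (F := F) hh).range := by
  refine le_antisymm ((Subgroup.closure_le _).2 ?_) ?_
  · intro φ hφ
    obtain ⟨χ, hχ, hact⟩ := hφ
    have key : ∀ r, r < D.nroots → ∀ t, φ (xg hh r t) = xg hh r ((χ r : F) * t) := fun r hr t => by
      refine eq_xg hh ?_
      rw [hact, xg_val, S2157.result D hD χ hχ r hr t]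
    refine ⟨fun i => χ (sp D i), eq_of_agree hh fun i t => ⟨?_, ?_⟩⟩
    · rw [diagHom_sp, key _ (sp_lt hh i)]
    · rw [diagHom_sm, key _ (sm_lt hh i), ← neg_sp hh i, hχ.1 _ (sp_lt hh i)]
  · rintro _ ⟨a, rfl⟩
    exact Subgroup.subset_closure (isDiagonalAut_diagAut hh _)

theorem closure_field :
    Subgroup.closure {φ : MulAut ↥(D.group F) | D.IsFieldAut φ} = (fieldHom (F := F) hh).range := by
  refine le_antisymm ((Subgroup.closure_le _).2 ?_) ?_
  · intro φ hφ
    obtain ⟨σ, rfl⟩ := eq_fieldAut_of_isFieldAut hh hφ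
    exact ⟨σ, rfl⟩
  · rintro _ ⟨σ, rfl⟩
    exact Subgroup.subset_closure (isFieldAut_fieldAut hh σ)

theorem commutator_not_le_ker [Finite F] {a b : Equiv.Perm (Fin D.rank)}
    (ha : a ∈ (outPerm (F := F) hh).range) (hb : b ∈ (outPerm (F := F) hh).range) (hab : a * b ≠ b * a) :
    ¬ commutator (Cfsg.Out ↥(D.group F)) ≤ (outPerm (F := F) hh).ker := by
  intro h
  obtain ⟨x, rfl⟩ := ha
  obtain ⟨y, rfl⟩ := hb
  have h1 := MonoidHom.mem_ker.1 (h (Subgroup.commutator_mem_commutator (Subgroup.mem_top x) (Subgroup.mem_top y)))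
  rw [map_commutatorElement, commutatorElement_eq_one_iff_mul_comm] at h1
  exact hab h1

/-- The transposition of the outer nodes of D₄. -/
def swapD4 : Equiv.Perm (Fin chevD4.rank) := (Equiv.swap 2 3 : Equiv.Perm (Fin 4))

/-- The three-cycle of the outer nodes of D₄. -/
def cycleD4 : Equiv.Perm (Fin chevD4.rank) := (Equiv.swap 0 2 * Equiv.swap 2 3 : Equiv.Perm (Fin 4))

omit hh in
theorem posPerm_swapD4 : posPerm chevD4 d4Swap.root swapD4 = true := by decide +kernel

omit hh in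
theorem posPerm_cycleD4 : posPerm chevD4 Twisted.d4Graph.root cycleD4 = true := by decide +kernel

omit hh in
theorem swapD4_spec : (swapD4 ^ 2 = 1 ∧ swapD4 ≠ 1) ∧ (cycleD4 ^ 3 = 1 ∧ cycleD4 ≠ 1) ∧
    swapD4 * cycleD4 ≠ cycleD4 * swapD4 := by
  decide +kernel

omit hh in
theorem index_D4 [Finite F] {C : Cert} (hh : Rooted chevD4 C) :
    (outPerm (F := F) hh).ker.index = 6 ∧
      ¬ commutator (Cfsg.Out ↥(chevD4.group F)) ≤ (outPerm (F := F) hh).ker := by
  obtain ⟨⟨s2, s1⟩, ⟨c3, c1⟩, hne⟩ := swapD4_spec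
  have hs := mem_range_of_graphData (F := F) hh d4Swap_facts posPerm_swapD4
  have hc := mem_range_of_graphData (F := F) hh Twisted.d4Graph_facts posPerm_cycleD4
  refine ⟨?_, commutator_not_le_ker hh hs hc hne⟩
  have hle : Nat.card ↥(outPerm (F := F) hh).range ≤ 6 :=
    (card_range_le hh).trans (show (syms chevD4 4).length ≤ 6 by decide +kernel)
  haveI : Fact (Nat.Prime 2) := ⟨Nat.prime_two⟩
  haveI : Fact (Nat.Prime 3) := ⟨Nat.prime_three⟩
  have h2 := Subgroup.orderOf_dvd_natCard (outPerm (F := F) hh).range hs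
  have h3 := Subgroup.orderOf_dvd_natCard (outPerm (F := F) hh).range hc
  rw [orderOf_eq_prime s2 s1] at h2
  rw [orderOf_eq_prime c3 c1] at h3
  have h6 := Nat.Coprime.mul_dvd_of_dvd_of_dvd (by decide : Nat.Coprime 2 3) h2 h3
  rw [Subgroup.index_ker]
  exact le_antisymm hle (Nat.le_of_dvd Nat.card_pos h6)

end Cfsg.Agent.Lib.ChevOut
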